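import Cfsg.Agent.Lib.Sporadic.HNRep.Words

set_option autoImplicit false
set_option maxRecDepth 20000
set_option Elab.async false

/-! Relators that evaluate to the identity (owner: helper25). -/

namespace CfsgLib.Sporadic.HNRep

theorem rel5 : evalWord mask mats [0, 2, 0, 2, 2, 2, 0, 2, 0, 2, 2, 2, 0, 2, 0, 2, 2, 2, 0, 2, 0, 2, 2, 2] = idEnc := by decide +kernel

theorem rel12 : evalWord mask mats [7, 3, 6, 2] = idEnc := by decide +kernel

theorem rel13 : evalWord mask mats [4, 6, 4, 6, 4, 6] = idEnc := by decide +kernel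

end CfsgLib.Sporadic.HNRep
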