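import Cfsg.Agent.Lib.Sporadic.HNRep.Words

set_option autoImplicit false
set_option maxRecDepth 20000
set_option Elab.async false

/-! Relators that evaluate to the identity (owner: helper25). -/

namespace CfsgLib.Sporadic.HNRep

theorem rel1 : evalWord mask mats [0, 0, 2, 0, 0, 3] = idEnc := by decide +kernel

theorem rel3 : evalWord mask mats [1, 2, 2, 0, 2, 2, 2, 1, 2, 2, 0, 2, 2, 2, 1, 2, 2, 0, 2, 2, 2] = idEnc := by decide +kernel

theorem rel11 : evalWord mask mats [1, 6, 0, 6, 6] = idEnc := by decide +kernel

end CfsgLib.Sporadic.HNRep
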