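import Cfsg.Agent.Lib.Sporadic.HNRep.Words

set_option autoImplicit false
set_option maxRecDepth 20000
set_option Elab.async false

/-! Relators that evaluate to the identity (owner: helper25). -/

namespace CfsgLib.Sporadic.HNRep

theorem rel0 : evalWord mask mats [2, 2, 2, 2, 2, 2] = idEnc := by decide +kernel

theorem rel6 : evalWord mask mats [4, 4] = idEnc := by decide +kernel

theorem rel8 : evalWord mask mats [5, 2, 1, 3, 3, 1, 3, 1, 3, 4, 2, 0, 2, 0, 2, 2, 0, 3, 1, 1] = idEnc := by decide +kernel

theorem rel10 : evalWord mask mats [6, 6, 6, 6, 6] = idEnc := by decide +kernel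

end CfsgLib.Sporadic.HNRep
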