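import Cfsg.Agent.Lib.Sporadic.HNRep.Check0
import Cfsg.Agent.Lib.Sporadic.HNRep.Check1
import Cfsg.Agent.Lib.Sporadic.HNRep.Check2
import Cfsg.Agent.Lib.Sporadic.HNRep.Check3
import Cfsg.Agent.Lib.Sporadic.HNRep.Check4

/-!
# A representation of the presented Harada–Norton group of degree 133 (owner: helper25)
-/

set_option autoImplicit false
set_option maxRecDepth 20000

namespace CfsgLib.Sporadic.HNRep

open Cfsg

/-- a letter as a matrix -/
noncomputable def mat (x : ℕ) : Mat 133 := toMat 133 (mats x)

theorem len_of_lt {x : ℕ} (hx : x < 8) : rowsOK 133 (mats x) = true :=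
  List.all_eq_true.1 rows_ok x (List.mem_range.2 hx)

theorem prod_mat_eq_one {w : List ℕ} (hw : ∀ x ∈ w, x < 8) (h : evalWord mask mats w = idEnc) :
    (w.map mat).prod = 1 := by
  apply enc_injective
  rw [enc_one, ← h]
  exact (evalWord_eq fun x hx => len_of_lt (hw x hx)).symm

theorem inv_check : ∀ x < 8, evalWord mask mats [x, x ^^^ 1] = idEnc := by
  intro x hx
  interval_cases x
  exacts [inv0, inv1, inv2, inv3, inv4, inv5, inv6, inv7]

theorem xor_one_lt {x : ℕ} (hx : x < 8) : x ^^^ 1 < 8 := by interval_cases x <;> decide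

theorem mat_mul_inv {x : ℕ} (hx : x < 8) : mat x * mat (x ^^^ 1) = 1 := by
  have h := prod_mat_eq_one (w := [x, x ^^^ 1]) (by simp [hx, xor_one_lt hx]) (inv_check x hx)
  simpa using h

theorem mat_inv_mul {x : ℕ} (hx : x < 8) : mat (x ^^^ 1) * mat x = 1 := by
  have h := mat_mul_inv (xor_one_lt hx)
  rwa [Nat.xor_assoc, Nat.xor_self, Nat.xor_zero] at h

/-- a letter as a unit -/
noncomputable def unit (x : ℕ) : (Mat 133)ˣ :=
  if hx : x < 8 then ⟨mat x, mat (x ^^^ 1), mat_mul_inv hx, mat_inv_mul hx⟩ else 1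

theorem unit_val {x : ℕ} (hx : x < 8) : ((unit x : (Mat 133)ˣ) : Mat 133) = mat x := by simp [unit, hx]

theorem unit_inv {x : ℕ} (hx : x < 8) : (unit x)⁻¹ = unit (x ^^^ 1) := by
  apply Units.ext
  rw [unit_val (xor_one_lt hx)]
  simp [unit, hx]

theorem code_lt : ∀ p : Spor.HN.Gen × Bool, code p < 8 := by rintro ⟨_ | _, _ | _⟩ <;> decide

theorem code_false : ∀ g : Spor.HN.Gen, code (g, false) = code (g, true) ^^^ 1 := by rintro (_ | _) <;> decide

/-- A free-group map agrees with the product of the letters of the reduced word. -/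
theorem hom_eq_prod {M : Type*} [Group M] (f : FreeGroup Spor.HN.Gen →* M) (b : ℕ → M)
    (hf : ∀ g, f (FreeGroup.of g) = b (code (g, true)))
    (hb : ∀ g, (b (code (g, true)))⁻¹ = b (code (g, false))) (r : FreeGroup Spor.HN.Gen) :
    f r = ((lettersOf r).map b).prod := by
  conv_lhs => rw [← FreeGroup.mk_toWord (x := r)]
  rw [lettersOf, List.map_map]
  induction r.toWord with
  | nil => simp [← FreeGroup.one_eq_mk]
  | cons p L ih =>
    rw [show FreeGroup.mk (p :: L) = FreeGroup.mk [p] * FreeGroup.mk L from rfl, map_mul, ih, List.map_cons,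
      List.prod_cons]
    congr 1
    obtain ⟨y, e⟩ := p
    cases e with
    | true => exact hf y
    | false =>
      rw [show FreeGroup.mk [(y, false)] = (FreeGroup.of y)⁻¹ from rfl, map_inv, hf]
      exact hb y

theorem rel_check : ∀ w ∈ relWords, evalWord mask mats w = idEnc := by
  intro w hw
  simp only [relWords, List.mem_cons, List.not_mem_nil, or_false] at hw
  rcases hw with rfl | rfl | rfl | rfl | rfl | rfl | rfl | rfl | rfl | rfl | rfl | rfl | rfl | rfl
  exacts [rel0, rel1, rel2, rel3, rel4, rel5, rel6, rel7, rel8, rel9, rel10, rel11, rel12, rel13]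

theorem unit_rel {w : List ℕ} (hw : w ∈ relWords) (hlt : ∀ x ∈ w, x < 8) : (w.map unit).prod = 1 := by
  apply Units.ext
  rw [Units.val_one, ← Units.coeHom_apply, map_list_prod, List.map_map]
  rw [← prod_mat_eq_one hlt (rel_check w hw)]
  congr 1
  exact List.map_congr_left fun x hx => unit_val (hlt x hx)

/-- The representation. -/
noncomputable def rho : Spor.HN →* (Mat 133)ˣ :=
  PresentedGroup.toGroup (f := fun g => unit (code (g, true))) (by
    intro r hr
    rcases hr with ⟨x, hx, -⟩ | hr
    · simp [Spor.coxNodes, Spor.HN.edges] at hx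
    rw [hom_eq_prod _ unit (fun g => FreeGroup.lift_apply_of)
      (fun g => by rw [code_false, unit_inv (code_lt _)])]
    refine unit_rel (relWords_eq ▸ List.mem_map.2 ⟨r, hr, rfl⟩) ?_
    intro x hx
    obtain ⟨p, -, rfl⟩ := List.mem_map.1 hx
    exact code_lt p)

theorem rho_of (g : Spor.HN.Gen) : rho (PresentedGroup.of g) = unit (code (g, true)) :=
  PresentedGroup.toGroup.of _

theorem sq_check : evalWord mask mats [0, 0] ≠ idEnc := by decide +kernel

theorem comm_check : evalWord mask mats [0, 2] ≠ evalWord mask mats [2, 0] := by decide +kernel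

theorem unit_sq_ne : unit 0 * unit 0 ≠ 1 := fun h => sq_check (by
  have h' := congrArg (fun u : (Mat 133)ˣ => (u : Mat 133)) h
  simp only [Units.val_mul, Units.val_one, unit_val (show 0 < 8 by norm_num)] at h'
  rw [show mask = maskN 133 from rfl, evalWord_eq (by simp [len_of_lt]), ← enc_one]
  simpa [mat] using congrArg enc h')

theorem unit_not_commute : unit 0 * unit 2 ≠ unit 2 * unit 0 := fun h => comm_check (by
  have h' := congrArg (fun u : (Mat 133)ˣ => (u : Mat 133)) h
  simp only [Units.val_mul, unit_val (show 0 < 8 by norm_num), unit_val (show 2 < 8 by norm_num)] at h'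
  rw [show mask = maskN 133 from rfl, evalWord_eq (by simp [len_of_lt]), evalWord_eq (by simp [len_of_lt])]
  simpa [mat] using congrArg enc h')

end CfsgLib.Sporadic.HNRep
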