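import Cfsg.Agent.Lib.Sporadic.HNRep.Packed
import Cfsg.Agent.Lib.Sporadic.HNRep.Data0
import Cfsg.Agent.Lib.Sporadic.HNRep.Data1
import Cfsg.Agent.Lib.Sporadic.HNRep.Data2
import Cfsg.Agent.Lib.Sporadic.HNRep.Data3
import Cfsg.Agent.Lib.Sporadic.HNRep.Data4
import Cfsg.Agent.Lib.Sporadic.HNRep.Data5
import Cfsg.Agent.Lib.Sporadic.HNRep.Data6
import Cfsg.Agent.Lib.Sporadic.HNRep.Data7
import Cfsg.Prelude.Def_Spor_HN

/-!
# The letters of the presentation as matrices (owner: helper25)
-/

set_option autoImplicit false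
set_option maxRecDepth 20000

namespace CfsgLib.Sporadic.HNRep

open Cfsg

/-- the rows of a letter -/
def mats (x : ℕ) : List (List ℕ) :=
  ([rows0, rows1, rows2, rows3, rows4, rows5, rows6, rows7] : List (List (List ℕ))).getD x []

theorem rows_ok : ((List.range 8).all fun x => rowsOK 133 (mats x)) = true := by decide +kernel

/-- the slot mask -/
noncomputable def mask : ℕ := maskN 133

/-- the number of a signed generator -/
def code : Spor.HN.Gen × Bool → ℕ
  | (.x, true) => 0
  | (.x, false) => 1
  | (.y, true) => 2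
  | (.y, false) => 3
  | (.z, true) => 4
  | (.z, false) => 5
  | (.t, true) => 6
  | (.t, false) => 7

/-- the letters of a word -/
def lettersOf (r : FreeGroup Spor.HN.Gen) : List ℕ := r.toWord.map code

end CfsgLib.Sporadic.HNRep
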