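import Mathlib

/-!
# Dense matrices over twenty-nine elements times packed matrices (owner: helper25)
-/

set_option autoImplicit false
set_option maxRecDepth 8000

namespace CfsgLib.Sporadic.HNRep

/-- pack a tuple into 32-bit slots -/
def packF : (n : ℕ) → (Fin n → ℕ) → ℕ
  | 0, _ => 0
  | n + 1, f => f 0 + 2 ^ 32 * packF n fun i => f i.succ

theorem packF_add : ∀ (n : ℕ) (f g : Fin n → ℕ), packF n f + packF n g = packF n fun i => f i + g i
  | 0, _, _ => rfl
  | n + 1, f, g => by simp only [packF, ← packF_add n]; ring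

theorem packF_smul : ∀ (n c : ℕ) (f : Fin n → ℕ), c * packF n f = packF n fun i => c * f i
  | 0, _, _ => by simp [packF]
  | n + 1, c, f => by simp only [packF, ← packF_smul n c]; ring

theorem packF_zero : ∀ n : ℕ, packF n (fun _ => 0) = 0
  | 0 => rfl
  | n + 1 => by simp [packF, packF_zero n]

theorem packF_inj : ∀ (n : ℕ) (f g : Fin n → ℕ), (∀ i, f i < 2 ^ 32) → (∀ i, g i < 2 ^ 32) →
    packF n f = packF n g → f = g
  | 0, f, g, _, _, _ => funext fun i => i.elim0
  | n + 1, f, g, hf, hg, h => by
    simp only [packF] at h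
    have h0 : f 0 = g 0 := by
      have := congrArg (· % 2 ^ 32) h
      rwa [Nat.add_mul_mod_self_left, Nat.add_mul_mod_self_left, Nat.mod_eq_of_lt (hf 0),
        Nat.mod_eq_of_lt (hg 0)] at this
    have h1 := packF_inj n _ _ (fun i => hf i.succ) (fun i => hg i.succ)
      (by rw [h0] at h; omega)
    funext i
    refine Fin.cases h0 (fun j => ?_) i
    exact congrFun h1 j

/-- the low twelve bits of every slot -/
def maskN : ℕ → ℕ
  | 0 => 0
  | n + 1 => (2 ^ 12 - 1) + 2 ^ 32 * maskN n

theorem land_block {a b c d : ℕ} (ha : a < 2 ^ 32) (hc : c < 2 ^ 32) :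
    (a + 2 ^ 32 * b) &&& (c + 2 ^ 32 * d) = (a &&& c) + 2 ^ 32 * (b &&& d) := by
  have hac : a &&& c < 2 ^ 32 := lt_of_le_of_lt Nat.and_le_left ha
  refine Nat.eq_of_testBit_eq fun i => ?_
  rw [Nat.testBit_and, add_comm a, add_comm c, add_comm (a &&& c),
    Nat.testBit_two_pow_mul_add _ ha, Nat.testBit_two_pow_mul_add _ hc, Nat.testBit_two_pow_mul_add _ hac]
  split <;> simp [Nat.testBit_and]

theorem shift_land : ∀ (n : ℕ) (f : Fin n → ℕ), (∀ i, f i < 2 ^ 32) →
    (packF n f >>> 20) &&& maskN n = packF n fun i => f i / 2 ^ 20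
  | 0, _, _ => by simp [packF, maskN]
  | n + 1, f, hf => by
    simp only [packF, maskN]
    set P := packF n fun i => f i.succ with hP
    have h0 := hf 0
    have hs : (f 0 + 2 ^ 32 * P) >>> 20 =
        (f 0 / 2 ^ 20 + 2 ^ 12 * (P % 2 ^ 20)) + 2 ^ 32 * (P >>> 20) := by
      simp only [Nat.shiftRight_eq_div_pow]
      omega
    have hlt : f 0 / 2 ^ 20 + 2 ^ 12 * (P % 2 ^ 20) < 2 ^ 32 := by omega
    rw [hs, land_block hlt (by norm_num), hP, shift_land n _ fun i => hf i.succ]
    congr 1
    rw [Nat.and_two_pow_sub_one_eq_mod]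
    omega

/-- reduce every slot modulo twenty-nine -/
def red (mask x : ℕ) : ℕ := x - 29 * (((x * 36158) >>> 20) &&& mask)

theorem red_packF {n : ℕ} (f : Fin n → ℕ) (hf : ∀ i, f i ≤ 118000) :
    red (maskN n) (packF n f) = packF n fun i => f i % 29 := by
  rw [red, mul_comm (packF n f), packF_smul,
    shift_land _ _ fun i => by have := hf i; omega]
  have hq : ∀ i, 36158 * f i / 2 ^ 20 = f i / 29 := fun i => by have := hf i; omega
  simp only [hq]
  rw [packF_smul]
  have : packF n f = packF n (fun i => f i % 29) + packF n fun i => 29 * (f i / 29) := by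
    rw [packF_add]
    congr 1
    funext i
    omega
  omega

/-- square matrices over twenty-nine elements -/
abbrev Mat (n : ℕ) : Type := Matrix (Fin n) (Fin n) (ZMod 29)

/-- the matrix of a list of rows -/
def toMat (n : ℕ) (S : List (List ℕ)) : Mat n :=
  Matrix.of fun i j => (((S.getD i.val []).getD j.val 0 : ℕ) : ZMod 29)

/-- pass the value of a number, not its expression -/
noncomputable def strict {α : Type} (v : ℕ) (k : ℕ → α) : α :=
  Nat.rec (motive := fun _ => α) (k 0) (fun q _ => k (Nat.succ q)) v

theorem strict_eq {α : Type} (v : ℕ) (k : ℕ → α) : strict v k = k v := by cases v <;> rfl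

/-- a row times packed rows -/
noncomputable def dot (row : List ℕ) : List ℕ → ℕ :=
  List.rec (motive := fun _ => List ℕ → ℕ) (fun _ => 0)
    (fun a _ ih R => List.rec (motive := fun _ => ℕ) 0
      (fun r R' _ => cond (Nat.beq a 0) (ih R') (Nat.add (Nat.mul a r) (ih R'))) R) row

/-- rows times packed rows -/
noncomputable def dmul (mask : ℕ) (S : List (List ℕ)) (R : List ℕ) : List ℕ :=
  List.rec (motive := fun _ => List ℕ) [] (fun row _ ih => strict (red mask (dot row R)) fun v => v :: ih) S

/-- the side conditions on a matrix -/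
def rowsOK (n : ℕ) (S : List (List ℕ)) : Bool :=
  S.length == n && S.all fun row => row.length == n && row.all fun a => Nat.blt a 29

/-- packed form of a matrix -/
def enc {n : ℕ} (A : Mat n) : List ℕ := List.ofFn fun i => packF n fun j => (A i j).val

theorem enc_injective {n : ℕ} : Function.Injective (enc (n := n)) := by
  intro A B h
  have h' := List.ofFn_injective h
  ext i j
  refine ZMod.val_injective 29 ?_
  exact congrFun (packF_inj n _ _ (fun k => (ZMod.val_lt (A i k)).trans_le (by norm_num))
    (fun k => (ZMod.val_lt (B i k)).trans_le (by norm_num)) (congrFun h' i)) j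

theorem dot_ofFn : ∀ (m : ℕ) (row : List ℕ) (n : ℕ) (g : Fin m → Fin n → ℕ), row.length = m →
    dot row (List.ofFn fun k => packF n (g k)) = packF n fun j => ∑ k : Fin m, row.getD k.val 0 * g k j
  | 0, row, n, g, h => by
    rw [List.length_eq_zero_iff] at h
    subst h
    simp [dot, packF_zero]
  | m + 1, [], n, g, h => by simp at h
  | m + 1, a :: row, n, g, h => by
    have hc : ∀ X Y : ℕ, cond (Nat.beq a 0) Y (a * X + Y) = a * X + Y := fun X Y => by
      cases h : Nat.beq a 0 with
      | true => rw [Nat.eq_of_beq_eq_true h]; simp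
      | false => rfl
    rw [List.ofFn_succ]
    show cond (Nat.beq a 0) (dot row (List.ofFn fun k => packF n (g k.succ)))
      (a * packF n (g 0) + dot row (List.ofFn fun k => packF n (g k.succ))) = _
    rw [hc, dot_ofFn m row n _ (by simpa using h), packF_smul, packF_add]
    congr 1
    funext j
    rw [Fin.sum_univ_succ]
    simp

theorem dmul_eq_map (mask : ℕ) (R : List ℕ) : ∀ S : List (List ℕ), dmul mask S R = S.map fun row => red mask (dot row R)
  | [] => rfl
  | row :: S => by
    show strict (red mask (dot row R)) (fun v => v :: dmul mask S R) = _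
    rw [strict_eq, dmul_eq_map mask R S, List.map_cons]

theorem dmul_enc {n : ℕ} (hn : n ≤ 133) {S : List (List ℕ)} (hS : rowsOK n S = true) (A : Mat n) :
    dmul (maskN n) S (enc A) = enc (toMat n S * A) := by
  simp only [rowsOK, Bool.and_eq_true, beq_iff_eq, List.all_eq_true] at hS
  obtain ⟨hlen, hrows⟩ := hS
  rw [dmul_eq_map]
  refine List.ext_getElem (by simp [enc, hlen]) fun i h1 h2 => ?_
  have hi : i < S.length := by simpa using h1
  obtain ⟨hl, hlt⟩ := hrows S[i] (List.getElem_mem hi)
  simp only [List.getElem_map, enc, List.getElem_ofFn]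
  rw [dot_ofFn n _ n _ hl, red_packF _ fun j => ?_]
  · congr 1
    funext j
    rw [← ZMod.val_natCast, Nat.cast_sum, Matrix.mul_apply]
    congr 1
    refine Finset.sum_congr rfl fun k _ => ?_
    simp only [toMat, Matrix.of_apply, List.getD_eq_getElem _ _ hi, Nat.cast_mul, ZMod.natCast_zmod_val]
  · refine le_trans (Finset.sum_le_sum (g := fun _ => 28 * 28) fun k _ => ?_) ?_
    · refine Nat.mul_le_mul ?_ (Nat.le_of_lt_succ (ZMod.val_lt _))
      rw [List.getD_eq_getElem _ _ (by omega)]
      have := hlt _ (List.getElem_mem (l := S[i]) (n := k.val) (by omega))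
      simp at this
      omega
    · simp only [Finset.sum_const, Finset.card_univ, Fintype.card_fin, smul_eq_mul]
      omega

/-- the packed identity in degree 133 -/
def idEnc : List ℕ := (List.range 133).map fun i => 2 ^ (32 * i)

theorem enc_one : enc (1 : Mat 133) = idEnc := by decide +kernel

/-- the packed value of a word in matrices -/
noncomputable def evalWord (mask : ℕ) (M : ℕ → List (List ℕ)) (w : List ℕ) : List ℕ :=
  List.rec (motive := fun _ => List ℕ) idEnc (fun x _ ih => dmul mask (M x) ih) w

theorem evalWord_eq {M : ℕ → List (List ℕ)} : ∀ {w : List ℕ}, (∀ x ∈ w, rowsOK 133 (M x) = true) →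
    evalWord (maskN 133) M w = enc (w.map fun x => toMat 133 (M x)).prod
  | [], _ => by rw [List.map_nil, List.prod_nil, enc_one]; rfl
  | x :: w, h => by
    rw [List.map_cons, List.prod_cons, ← dmul_enc le_rfl (h x List.mem_cons_self),
      ← evalWord_eq fun y hy => h y (List.mem_cons_of_mem _ hy)]
    rfl

end CfsgLib.Sporadic.HNRep
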