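import Cfsg.Agent.Lib.Sporadic.HNRep.Letters

set_option autoImplicit false
set_option maxRecDepth 20000
set_option Elab.async false

/-! The relators as words (owner: helper25). -/

namespace CfsgLib.Sporadic.HNRep

/-- the fourteen relators -/
def relWords : List (List ℕ) := [
  [2, 2, 2, 2, 2, 2],
  [0, 0, 2, 0, 0, 3],
  [1, 3, 0, 2, 1, 3, 0, 2, 1, 3, 0, 2],
  [1, 2, 2, 0, 2, 2, 2, 1, 2, 2, 0, 2, 2, 2, 1, 2, 2, 0, 2, 2, 2],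
  [0, 2, 0, 2, 0, 2, 0, 2, 0, 2, 0, 2, 0, 2, 0, 2],
  [0, 2, 0, 2, 2, 2, 0, 2, 0, 2, 2, 2, 0, 2, 0, 2, 2, 2, 0, 2, 0, 2, 2, 2],
  [4, 4],
  [4, 0, 4, 0],
  [5, 2, 1, 3, 3, 1, 3, 1, 3, 4, 2, 0, 2, 0, 2, 2, 0, 3, 1, 1],
  [4, 3, 1, 3, 1, 3, 3, 3, 4, 2, 2, 2, 0, 2, 0, 2, 0, 3, 1, 3, 1, 3, 3, 3, 4, 2, 2, 2, 0, 2, 0, 2, 0, 3, 1, 3, 1, 3, 3, 3, 4, 2, 2, 2, 0, 2, 0, 2, 0],
  [6, 6, 6, 6, 6],
  [1, 6, 0, 6, 6],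
  [7, 3, 6, 2],
  [4, 6, 4, 6, 4, 6]]

theorem relWords_eq : Cfsg.Spor.HN.extra.map lettersOf = relWords := by decide +kernel

end CfsgLib.Sporadic.HNRep
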